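import Mathlib

/-!
Henselianity of the localization of the integral closure in the fixed field of a set of
automorphisms stabilising a prime of the integral closure in a separable closure.
-/

set_option autoImplicit false

universe u

open Polynomial

namespace Groth.Agent.DecompHenselLib

/-- Hensel's property at a prime of a domain gives a Henselian localization. -/
theorem henselian_of_hensel_at {B : Type u} [CommRing B] [IsDomain B] (Q : Ideal B) [Q.IsPrime]
    (h : ∀ F : B[X], F.Monic → ∀ b : B, F.eval b ∈ Q → F.derivative.eval b ∉ Q →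
      ∃ β : B, F.eval β = 0 ∧ β - b ∈ Q) :
    HenselianLocalRing (Localization.AtPrime Q) := by
  classical
  let O := Localization.AtPrime Q
  have hmem : ∀ b : B, algebraMap B O b ∈ IsLocalRing.maximalIdeal O ↔ b ∈ Q :=
    fun b => IsLocalization.AtPrime.to_map_mem_maximal_iff O Q b
  refine { is_henselian := fun f hf a₀ ha hd => ?_ }
  obtain ⟨s, hs⟩ := IsLocalization.exist_integer_multiples_of_finset Q.primeCompl
    (insert a₀ f.coeffs)
  have hunit : IsUnit (algebraMap B O s.1) := IsLocalization.map_units O s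
  obtain ⟨b, hb⟩ := hs a₀ (Finset.mem_insert_self _ _)
  rw [Algebra.smul_def] at hb
  have hlifts : f.scaleRoots (algebraMap B O s.1) ∈ lifts (algebraMap B O) := by
    rw [lifts_iff_coeff_lifts]
    intro i
    rw [coeff_scaleRoots]
    rcases lt_trichotomy i f.natDegree with hi | hi | hi
    · by_cases hc : f.coeff i = 0
      · exact ⟨0, by simp [hc]⟩
      obtain ⟨c, hc'⟩ := hs (f.coeff i) (Finset.mem_insert_of_mem (mem_coeffs_iff.2
        ⟨i, mem_support_iff.2 hc, rfl⟩))
      rw [Algebra.smul_def] at hc'
      refine ⟨c * s.1 ^ (f.natDegree - i - 1), ?_⟩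
      rw [map_mul, map_pow, hc', mul_comm (algebraMap B O s.1) (f.coeff i), mul_assoc, ← pow_succ',
        show f.natDegree - i - 1 + 1 = f.natDegree - i by omega]
    · subst hi
      exact ⟨1, by simp [hf.coeff_natDegree]⟩
    · exact ⟨0, by simp [coeff_eq_zero_of_natDegree_lt hi]⟩
  obtain ⟨F, hF, -, hFm⟩ := lifts_and_natDegree_eq_and_monic hlifts
    ((monic_scaleRoots_iff _).2 hf)
  have hev : ∀ x : O, (F.map (algebraMap B O)).eval (algebraMap B O s.1 * x) =
      algebraMap B O s.1 ^ f.natDegree * f.eval x := by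
    intro x
    rw [hF, scaleRoots_eval_mul]
  have hder : ∀ x : O, (F.derivative.map (algebraMap B O)).eval (algebraMap B O s.1 * x) *
      algebraMap B O s.1 = algebraMap B O s.1 ^ f.natDegree * f.derivative.eval x := by
    intro x
    have hid : (F.map (algebraMap B O)).comp (C (algebraMap B O s.1) * X) =
        C (algebraMap B O s.1 ^ f.natDegree) * f := by
      rw [hF, comp, scaleRoots_eval₂_mul, eval₂_C_X, map_pow]
    have := congrArg (fun p => (derivative p).eval x) hid
    simp only [derivative_comp, derivative_mul, derivative_C, derivative_X, zero_mul, zero_add,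
      mul_one, eval_mul, eval_comp, eval_C, eval_X, derivative_map] at this
    rw [← this]
    ring
  have h1 : F.eval b ∈ Q := by
    rw [← hmem, ← eval₂_at_apply, ← eval_map, hb, hev]
    exact Ideal.mul_mem_left _ _ ha
  have h2 : F.derivative.eval b ∉ Q := by
    rw [← hmem, ← eval₂_at_apply, ← eval_map, hb, IsLocalRing.mem_maximalIdeal, mem_nonunits_iff,
      not_not]
    exact (IsUnit.mul_iff.1 ((hder a₀).symm ▸ ((hunit.pow _).mul hd))).1
  obtain ⟨β, hβ, hβb⟩ := h F hFm b h1 h2
  obtain ⟨v, hv⟩ := hunit.exists_right_inv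
  have hβs : algebraMap B O β = algebraMap B O s.1 * (algebraMap B O β * v) := by
    rw [mul_left_comm, hv, mul_one]
  refine ⟨algebraMap B O β * v, ?_, ?_⟩
  · have h3 := hev (algebraMap B O β * v)
    rw [← hβs, eval_map, eval₂_at_apply, hβ, map_zero] at h3
    exact (hunit.pow _).mul_right_eq_zero.1 h3.symm
  · have : algebraMap B O β * v - a₀ = v * algebraMap B O (β - b) := by
      rw [map_sub, hb, mul_sub, mul_comm (algebraMap B O β) v, ← mul_assoc v,
        mul_comm v (algebraMap B O s.1), hv, one_mul]
    rw [this]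
    exact Ideal.mul_mem_left _ _ ((hmem _).2 hβb)

/-- The main lemma. -/
theorem henselian_fixed {R K Ks : Type u} [CommRing R] [Field K] [Algebra R K]
    [Field Ks] [IsSepClosed Ks] [Algebra K Ks] [Algebra R Ks] [IsScalarTower R K Ks]
    (Ps : Ideal (integralClosure R Ks)) [Ps.IsPrime]
    (L : IntermediateField K Ks) (Gen : Set (Ks ≃ₐ[K] Ks))
    (hL₁ : ∀ σ ∈ Gen, ∀ x ∈ L, σ x = x)
    (hL₂ : ∀ x : Ks, (∀ σ ∈ Gen, σ x = x) → x ∈ L)
    (hstab : ∀ σ ∈ Gen, ∀ x : integralClosure R Ks, x ∈ Ps →
        ∀ y : integralClosure R Ks, (y : Ks) = σ (x : Ks) → y ∈ Ps)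
    (Q : Ideal (integralClosure R L)) [Q.IsPrime]
    (hQ : ∀ y : integralClosure R L, y ∈ Q ↔
      ∃ x : integralClosure R Ks, x ∈ Ps ∧ (x : Ks) = ((y : L) : Ks)) :
    HenselianLocalRing (Localization.AtPrime Q) := by
  classical
  let B := integralClosure R L
  let S := integralClosure R Ks
  have hint : ∀ y : B, IsIntegral R (((y : L) : Ks)) := fun y =>
    (y.2 : IsIntegral R (y : L)).map ((L.val).restrictScalars R)
  let φ : B →+* S := RingHom.codRestrict ((algebraMap L Ks).comp B.toSubring.subtype)
    (integralClosure R Ks).toSubring hint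
  have hφ : ∀ y : B, ((φ y : S) : Ks) = ((y : L) : Ks) := fun y => rfl
  have hQ' : ∀ y : B, φ y ∈ Ps ↔ y ∈ Q := by
    intro y
    rw [hQ]
    constructor
    · exact fun h => ⟨φ y, h, rfl⟩
    · rintro ⟨x, hx, he⟩
      exact (Subtype.ext (he.trans (hφ y).symm) : x = φ y) ▸ hx
  refine henselian_of_hensel_at Q ?_
  intro F
  induction hn : F.natDegree using Nat.strong_induction_on generalizing F with
  | _ n ih =>
  intro hF b hb hd
  have hmapm : (F.map (algebraMap B L)).Monic := hF.map _
  by_cases hirr : Irreducible (F.map (algebraMap B L))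
  · -- the irreducible case
    have hd0 : F.derivative ≠ 0 := by
      intro h0
      rw [h0, eval_zero] at hd
      exact hd Q.zero_mem
    have hinjBL : Function.Injective (algebraMap B L) := Subtype.val_injective
    have hsep : (F.map (algebraMap B L)).Separable := by
      rw [separable_iff_derivative_ne_zero hirr, derivative_map]
      exact fun h => hd0 ((Polynomial.map_eq_zero_iff hinjBL).1 h)
    have hspl := IsSepClosed.splits_codomain (f := algebraMap L Ks) _ hsep
    have hmm : (F.map (algebraMap B L)).map (algebraMap L Ks) = (F.map φ).map S.val.toRingHom := by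
      rw [map_map, map_map]
      rfl
    rw [hmm] at hspl
    have hprod := hspl.eq_prod_roots_of_monic ((hF.map _).map _)
    set rts := ((F.map φ).map S.val.toRingHom).roots with hrts
    have hroot_int : ∀ α ∈ rts, IsIntegral R α := by
      intro α hα
      rw [hrts, mem_roots ((hF.map _).map _).ne_zero, IsRoot.def, eval_map] at hα
      have h1 : IsIntegral S α := ⟨F.map φ, hF.map _, hα⟩
      exact isIntegral_trans (A := S) α h1
    let rS : Multiset S := rts.pmap (fun a h => (⟨a, h⟩ : S)) hroot_int
    have hrS : rS.map (fun a : S => (a : Ks)) = rts := by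
      simp [rS, Multiset.map_pmap, Multiset.pmap_eq_map]
    have hG : F.map φ = (rS.map fun a => X - C a).prod := by
      apply map_injective S.val.toRingHom Subtype.val_injective
      rw [← coe_mapRingHom, map_multiset_prod, Multiset.map_map]
      conv_lhs => rw [coe_mapRingHom, hprod, ← hrS, Multiset.map_map]
      congr 1
      refine Multiset.map_congr rfl fun a _ => ?_
      simp
    have hGb : (F.map φ).eval (φ b) ∈ Ps := by
      rw [eval_map, eval₂_at_apply]
      exact (hQ' _).2 hb
    have hGd : (F.map φ).derivative.eval (φ b) ∉ Ps := by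
      rw [derivative_map, eval_map, eval₂_at_apply, hQ']
      exact hd
    obtain ⟨α, hα, hαb⟩ : ∃ α ∈ rS, φ b - α ∈ Ps := by
      rw [hG, eval_multiset_prod, Multiset.map_map,
        Ideal.IsPrime.multiset_prod_mem_iff_exists_mem inferInstance] at hGb
      obtain ⟨w, hw, hwP⟩ := hGb
      obtain ⟨α, hα, rfl⟩ := Multiset.mem_map.1 hw
      exact ⟨α, hα, by simpa using hwP⟩
    have hαroot : (F.map φ).eval α = 0 := by
      rw [hG, eval_multiset_prod, Multiset.map_map]
      exact Multiset.prod_eq_zero (Multiset.mem_map.2 ⟨α, hα, by simp⟩)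
    have huniq : ∀ α' : S, (F.map φ).eval α' = 0 → φ b - α' ∈ Ps → α' = α := by
      intro α' h0 hP
      by_contra hne
      apply hGd
      obtain ⟨G1, hG1⟩ := dvd_iff_isRoot.2 (show (F.map φ).IsRoot α from hαroot)
      have h1 : G1.eval α' = 0 := by
        rw [hG1, eval_mul, eval_sub, eval_X, eval_C] at h0
        exact (mul_eq_zero.1 h0).resolve_left (sub_ne_zero.2 hne)
      obtain ⟨G2, rfl⟩ := dvd_iff_isRoot.2 (show G1.IsRoot α' from h1)
      rw [hG1]
      simp only [derivative_mul, derivative_sub, derivative_X, derivative_C, sub_zero, one_mul,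
        eval_add, eval_mul, eval_sub, eval_X, eval_C]
      exact Ps.add_mem (Ps.mul_mem_right _ hP) (Ps.mul_mem_right _ hαb)
    have hαL : (α : Ks) ∈ L := by
      refine hL₂ _ fun σ hσ => ?_
      let ψ : Ks →ₐ[R] Ks := (σ.toAlgHom).restrictScalars R
      let σS : S →+* S := RingHom.codRestrict (ψ.toRingHom.comp S.toSubring.subtype)
        S.toSubring (fun x => (x.2 : IsIntegral R (x : Ks)).map ψ)
      have hσS : ∀ x : S, ((σS x : S) : Ks) = σ (x : Ks) := fun x => rfl
      have hσφ : σS.comp φ = φ := by
        ext y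
        exact hL₁ σ hσ _ (y : L).2
      have h0 : (F.map φ).eval (σS α) = 0 := by
        have h3 := congrArg σS hαroot
        rw [map_zero, eval_map, hom_eval₂, hσφ] at h3
        rwa [eval_map]
      have hP : φ b - σS α ∈ Ps := by
        have : φ b - σS α = σS (φ b - α) := by
          rw [map_sub, ← RingHom.comp_apply, hσφ]
        rw [this]
        exact hstab σ hσ _ hαb _ (hσS _)
      have h4 := huniq _ h0 hP
      calc σ (α : Ks) = ((σS α : S) : Ks) := (hσS α).symm
        _ = (α : Ks) := by rw [h4]
    have hαint : IsIntegral R (⟨(α : Ks), hαL⟩ : L) := by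
      rw [← isIntegral_algHom_iff ((L.val).restrictScalars R)
        (fun x y h => Subtype.ext h)]
      exact α.2
    let β : B := ⟨⟨(α : Ks), hαL⟩, hαint⟩
    have hβα : φ β = α := Subtype.ext rfl
    refine ⟨β, ?_, ?_⟩
    · have hinj : Function.Injective φ := fun x y h =>
        Subtype.ext (Subtype.ext (congrArg (fun z : S => (z : Ks)) h))
      apply hinj
      rw [map_zero, ← eval₂_at_apply, ← eval_map, hβα, hαroot]
    · rw [← hQ', map_sub, hβα, ← neg_sub]
      exact Ps.neg_mem hαb
  · -- the reducible case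
    have hdeg : n ≠ 0 := by
      intro h0
      subst h0
      rw [hF.natDegree_eq_zero.1 hn, eval_one] at hb
      exact (Ideal.IsPrime.ne_top inferInstance) ((Ideal.eq_top_iff_one Q).2 hb)
    have hne1 : F.map (algebraMap B L) ≠ 1 := by
      intro h1
      have h2 := congrArg natDegree h1
      rw [hF.natDegree_map, natDegree_one, hn] at h2
      exact hdeg h2
    obtain ⟨g, hg, hgd, hgdeg⟩ : ∃ g : L[X], g.Monic ∧ g ∣ F.map (algebraMap B L) ∧
        0 < g.natDegree ∧ g.natDegree < n := by
      rw [hmapm.irreducible_iff_natDegree'] at hirr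
      simp only [not_and, not_forall] at hirr
      obtain ⟨f, g, hf, hg, hfg, hmem⟩ := hirr hne1
      rw [not_not, Finset.mem_Ioc, hF.natDegree_map, hn] at hmem
      exact ⟨g, hg, ⟨f, by rw [← hfg, mul_comm]⟩, hmem.1, by omega⟩
    obtain ⟨hgpos, hglt⟩ := hgdeg
    have hlift : g ∈ lifts (algebraMap B L) := by
      have h1 := integralClosure.mem_lifts_of_monic_of_dvd_map L hF hg hgd
      rw [lifts_iff_coeff_lifts] at h1 ⊢
      intro i
      obtain ⟨c, hc⟩ := h1 i
      have : IsIntegral R (c : L) := isIntegral_trans (A := B) _ c.2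
      exact ⟨⟨(c : L), this⟩, hc⟩
    obtain ⟨g', hg', hg'deg, hg'm⟩ := lifts_and_natDegree_eq_and_monic hlift hg
    obtain ⟨f', hf'⟩ : g' ∣ F := by
      refine (map_dvd_map (algebraMap B L) Subtype.val_injective hg'm).1 ?_
      rw [hg']
      exact hgd
    have hf'm : f'.Monic := hg'm.of_mul_monic_left (hf' ▸ hF)
    have hdeg' : f'.natDegree + g'.natDegree = n := by
      rw [← hn, hf', hg'm.natDegree_mul hf'm, add_comm]
    rw [hf', eval_mul] at hb
    rw [hf', derivative_mul, eval_add, eval_mul, eval_mul] at hd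
    rcases Ideal.IsPrime.mem_or_mem inferInstance hb with h1 | h1
    · have h2 : g'.derivative.eval b ∉ Q := fun h2 => hd
        (Q.add_mem (Q.mul_mem_right _ h2) (Q.mul_mem_right _ h1))
      obtain ⟨β, hβ, hβb⟩ := ih g'.natDegree (by omega) g' rfl hg'm b h1 h2
      exact ⟨β, by rw [hf', eval_mul, hβ, zero_mul], hβb⟩
    · have h2 : f'.derivative.eval b ∉ Q := fun h2 => hd
        (Q.add_mem (Q.mul_mem_left _ h1) (Q.mul_mem_left _ h2))
      obtain ⟨β, hβ, hβb⟩ := ih f'.natDegree (by omega) f' rfl hf'm b h1 h2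
      exact ⟨β, by rw [hf', eval_mul, hβ, mul_zero], hβb⟩

end Groth.Agent.DecompHenselLib
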